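import Cfsg.Agent.H539.Lim.DefsC

/-!
# Claim T, section C5: downward induction (helper88, for S5242)
-/

set_option autoImplicit false

namespace Cfsg.Agent.H88.Lim

open MulAction Cfsg.Agent.H539.Lim Pointwise

universe u v w

variable {G : Type u} [Group G] [Finite G] {Ω : Type v} [MulAction G Ω] [Finite Ω] {D : Type w} [AddCommGroup D]
  [DistribMulAction G D] [Finite D]

omit [Finite G] [Finite D] in
/-- in `ZMod 2` every element is `0` or `1` -/
private theorem zmod2 (t : ZMod 2) : t = 0 ∨ t = 1 := by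
  revert t; decide

omit [Finite G] [Finite D] in
/-- the action of a transvection on a vector -/
private theorem Tv.cases {a : G} {f : D →+ ZMod 2} {z : D} (h : Tv a f z) (d : D) :
    (f d = 0 ∧ a • d = d) ∨ (f d = 1 ∧ a • d = d + z) := by
  rcases zmod2 (f d) with h0 | h0
  · left; refine ⟨h0, ?_⟩; rw [h.act d, h0]; simp
  · right; refine ⟨h0, ?_⟩; rw [h.act d, h0]
    have : (1 : ZMod 2).val = 1 := rfl
    rw [this, one_smul]

omit [Finite G] [Finite D] in
private theorem Tv.exists_one {a : G} {f : D →+ ZMod 2} {z : D} (h : Tv a f z) : ∃ d, f d = 1 := by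
  by_contra hcon
  push Not at hcon
  exact h.f_ne (by ext d; rcases zmod2 (f d) with h0 | h0
                   · simp [h0]
                   · exact absurd h0 (hcon d))

omit [Finite G] in
/-- `⟨a⟩` is a best offender -/
theorem bo_zpowers {a : G} {f : D →+ ZMod 2} {z : D} (h : Tv a f z) : BO D (Subgroup.zpowers a) := by
  have ha1 : ∀ u ∈ Subgroup.zpowers a, u = 1 ∨ u = a := by
    rintro u ⟨n, rfl⟩
    rcases Int.even_or_odd' n with ⟨k, rfl | rfl⟩
    · left
      show a ^ (2 * k) = 1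
      rw [zpow_mul, zpow_two, h.sq, one_zpow]
    · right
      show a ^ (2 * k + 1) = a
      rw [zpow_add, zpow_mul, zpow_two, h.sq, one_zpow, zpow_one, one_mul]
  have hord : orderOf a = 2 := orderOf_eq_prime (by rw [pow_two]; exact h.sq) h.ne_one
  have hcard : Nat.card (Subgroup.zpowers a) = 2 := by rw [Nat.card_zpowers, hord]
  have hker : (DFix (Subgroup.zpowers a) D : AddSubgroup D) = f.ker := by
    ext d
    constructor
    · intro hd
      have h1 : a • d = d := hd a (Subgroup.mem_zpowers a)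
      rcases Tv.cases h d with ⟨h0, _⟩ | ⟨_, h2⟩
      · exact h0
      · exfalso
        rw [h1] at h2
        exact h.z_ne (by simpa using h2)
    · intro hd u hu
      have hd' : f d = 0 := hd
      rcases ha1 u hu with rfl | rfl
      · exact one_smul _ _
      · rcases Tv.cases h d with ⟨_, h2⟩ | ⟨h0, _⟩
        · exact h2
        · rw [hd'] at h0; exact absurd h0 (by decide)
  have hindex : f.ker.index = 2 := by
    obtain ⟨d, hd⟩ := Tv.exists_one h
    have hs : Function.Surjective f := by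
      intro t
      rcases zmod2 t with rfl | rfl
      · exact ⟨0, map_zero f⟩
      · exact ⟨d, hd⟩
    rw [AddSubgroup.index_ker, AddMonoidHom.range_eq_top.mpr hs]
    simp
  have hD : Nat.card D = 2 * Nat.card (DFix (Subgroup.zpowers a) D) := by
    have h3 : Nat.card f.ker * f.ker.index = Nat.card D := AddSubgroup.card_mul_index f.ker
    rw [hindex] at h3
    have h4 : Nat.card (DFix (Subgroup.zpowers a) D) = Nat.card f.ker := by
      exact congrArg (fun S : AddSubgroup D => Nat.card S) hker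
    rw [h4]; omega
  refine ⟨?_, ?_⟩
  · intro u hu w hw
    rcases ha1 u hu with rfl | rfl <;> rcases ha1 w hw with rfl | rfl <;> simp
  · intro B hB
    by_cases haB : a ∈ B
    · have : B = Subgroup.zpowers a := le_antisymm hB (by simpa using haB)
      rw [this]
    · have hB1 : B = ⊥ := by
        rw [eq_bot_iff]
        intro u hu
        rcases ha1 u (hB hu) with rfl | rfl
        · exact Subgroup.mem_bot.mpr rfl
        · exact absurd hu haB
      have h5 : Nat.card (DFix (⊥ : Subgroup G) D) ≤ Nat.card D :=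
        Nat.card_le_card_of_injective (fun d => d.1) Subtype.val_injective
      have h6 : Nat.card B = 1 := by rw [hB1]; simp
      rw [h6, hB1, hcard, one_mul]
      omega

omit [Finite G] in
/-- a subgroup containing a transvection is in `Q0` -/
theorem mem_Q0 {P R : Subgroup G} (hP : P ∈ Q1 G D) (hPR : P ≤ R) : R ∈ Q0 G D := by
  obtain ⟨a, ha, f, z, h⟩ := hP
  refine ⟨Subgroup.zpowers a, ?_, ?_, bo_zpowers h⟩
  · simpa using hPR ha
  · intro hb
    rw [Subgroup.zpowers_eq_bot] at hb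
    exact h.ne_one hb

omit [Finite G] [Finite D] in
/-- conjugate of a transvection -/
theorem Tv.conj {a : G} {f : D →+ ZMod 2} {z : D} (h : Tv a f z) (g : G) :
    Tv (g⁻¹ * a * g) (f.comp (DistribSMul.toAddMonoidHom D g)) (g⁻¹ • z) where
  ne_one := by
    intro hh
    apply h.ne_one
    calc a = g * (g⁻¹ * a * g) * g⁻¹ := by group
      _ = 1 := by rw [hh]; group
  sq := by
    calc g⁻¹ * a * g * (g⁻¹ * a * g) = g⁻¹ * (a * a) * g := by group
      _ = 1 := by rw [h.sq]; group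
  z_ne := by
    intro hh
    apply h.z_ne
    have := congrArg (fun t => g • t) hh
    simpa using this
  two_z := by rw [← smul_add, h.two_z, smul_zero]
  f_ne := by
    intro hh
    obtain ⟨d, hd⟩ := Tv.exists_one h
    have h1 := DFunLike.congr_fun hh (g⁻¹ • d)
    simp [hd] at h1
  fz := by simp [h.fz]
  act := by
    intro d
    have h1 : (g⁻¹ * a * g) • d = g⁻¹ • a • g • d := by rw [smul_smul, smul_smul]
    rw [h1, h.act (g • d), smul_add, inv_smul_smul]
    congr 1
    rw [← smul_comm]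
    rfl

omit [Finite G] [Finite D] in
/-- the centre of a transvection is unique -/
theorem Tv.centre_unique {a : G} {f f' : D →+ ZMod 2} {z z' : D} (h : Tv a f z) (h' : Tv a f' z') : z = z' := by
  obtain ⟨d, hd⟩ := Tv.exists_one h
  rcases Tv.cases h d with ⟨h0, _⟩ | ⟨_, h1⟩
  · rw [hd] at h0; exact absurd h0 (by decide)
  · rcases Tv.cases h' d with ⟨_, h2⟩ | ⟨_, h2⟩
    · rw [h2] at h1
      exact absurd (by simpa using h1) h.z_ne
    · rw [h2] at h1
      exact (add_left_cancel h1).symm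

omit [Finite Ω] [Finite D] in
/-- a Sylow orbit contains a point fixed by a given `2`-subgroup -/
theorem exists_point {Ω₀ : Finset Ω} (h0 : Orb2 G Ω₀) {x : Ω} (hx : x ∈ Ω₀) {R : Subgroup G}
    (hR : IsPGroup 2 R) : ∃ y ∈ Ω₀, R ≤ stabilizer G y := by
  have : Fact (Nat.Prime 2) := ⟨Nat.prime_two⟩
  obtain ⟨S, hS⟩ := h0.sylow x hx
  obtain ⟨T, hT⟩ := hR.exists_le_sylow
  obtain ⟨g, hg⟩ := MulAction.exists_smul_eq G S T
  refine ⟨g • x, h0.smul_mem g x hx, ?_⟩
  intro r hr
  have h1 : r ∈ (T : Subgroup G) := hT hr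
  rw [← hg] at h1
  have h2 : g⁻¹ * r * g ∈ (S : Subgroup G) := by
    have h3 : r ∈ MulAut.conj g • (S : Subgroup G) := h1
    rw [Subgroup.mem_pointwise_smul_iff_inv_smul_mem] at h3
    simpa [MulAut.smul_def, mul_assoc] using h3
  rw [hS, mem_stabilizer_iff] at h2
  rw [mem_stabilizer_iff]
  calc r • g • x = g • (g⁻¹ * r * g) • x := by rw [smul_smul, smul_smul]; congr 1; group
    _ = g • x := by rw [h2]

omit [Finite G] [Finite D] [Finite Ω] in
/-- an involution fixes an odd number of points of `Ω₀` -/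
theorem odd_fixed {Ω₀ : Finset Ω} (h0 : Orb2 G Ω₀) {a : G} (ha : a * a = 1) (s : Finset Ω)
    (hs : ∀ y, y ∈ s ↔ y ∈ Ω₀ ∧ a • y = y) : Odd s.card := by
  classical
  have h1 : ∑ _y ∈ Ω₀ \ s, (1 : ZMod 2) = 0 := by
    refine Finset.sum_involution (fun y _ => a • y) ?_ ?_ ?_ ?_
    · intro y _; decide
    · intro y hy _ hh
      rw [Finset.mem_sdiff, hs] at hy
      exact hy.2 ⟨hy.1, hh⟩
    · intro y hy
      rw [Finset.mem_sdiff, hs] at hy ⊢
      refine ⟨h0.smul_mem a y hy.1, fun hh => hy.2 ⟨hy.1, ?_⟩⟩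
      have := hh.2
      rw [smul_smul, ha, one_smul] at this
      exact this.symm
    · intro y _
      show a • a • y = y
      rw [smul_smul, ha, one_smul]
  have h2 : ((Ω₀ \ s).card : ZMod 2) = 0 := by simpa using h1
  have h3 : Even (Ω₀ \ s).card := (ZMod.natCast_eq_zero_iff_even).mp h2
  have hsub : s ⊆ Ω₀ := fun y hy => ((hs y).mp hy).1
  have h4 : (Ω₀ \ s).card + s.card = Ω₀.card := Finset.card_sdiff_add_card_eq_card hsub
  have h5 := h0.odd
  rw [← h4] at h5
  exact (Nat.odd_add'.mp h5).mpr h3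

omit [Finite G] [Finite D] [Finite Ω] in
/-- an odd multiple of an element of order two -/
private theorem odd_smul {n : ℕ} (hn : Odd n) {d : D} (hd : 2 • d = 0) : n • d = d := by
  obtain ⟨k, rfl⟩ := hn
  rw [add_smul, mul_comm, mul_smul, hd, smul_zero, one_smul, zero_add]

omit [Finite G] [Finite Ω] in
/-- `c x y` from the vertex functions -/
theorem c_eq_Vv' {Ω₀ : Finset Ω} (h0 : Orb2 G Ω₀) {c : Ω → Ω → D} (hc : Coc2 G Ω₀ c)
    (h2 : ∀ x ∈ Ω₀, ∀ y ∈ Ω₀, 2 • c x y = 0) {a : G} {f : D →+ ZMod 2} {z : D} (ha : Tv a f z) {x y : Ω}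
    (hx : x ∈ Ω₀) (hy : y ∈ Ω₀) (hax : a • x = x) (hay : a • y = y) :
    c x y = Vv Ω₀ c a x + Vv Ω₀ c a y := by
  classical
  have hF : ∀ w, w ∈ (Ω₀.filter (fun y => a • y = y)) ↔ w ∈ Ω₀ ∧ a • w = w := fun w => Finset.mem_filter
  have hodd := odd_fixed h0 ha.sq _ hF
  have h3 : ∀ w ∈ Ω₀.filter (fun y => a • y = y), c x w = c x y + c y w := by
    intro w hw
    rw [hF] at hw
    apply hc.coc x hx y hy w hw.1
    refine mem_Q0 (P := Subgroup.zpowers a) ⟨a, Subgroup.mem_zpowers a, f, z, ha⟩ ?_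
    rw [Subgroup.zpowers_le]
    exact ⟨⟨mem_stabilizer_iff.mpr hax, mem_stabilizer_iff.mpr hay⟩, mem_stabilizer_iff.mpr hw.2⟩
  have h4 : Vv Ω₀ c a x = c x y + Vv Ω₀ c a y := by
    have e1 : Vv Ω₀ c a x = ∑ w ∈ Ω₀.filter (fun y => a • y = y), c x w := by
      unfold Vv; congr!
    have e2 : Vv Ω₀ c a y = ∑ w ∈ Ω₀.filter (fun y => a • y = y), c y w := by
      unfold Vv; congr!
    rw [e1, e2, Finset.sum_congr rfl h3, Finset.sum_add_distrib, Finset.sum_const,
      odd_smul hodd (h2 x hx y hy)]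
  have h5 : Vv Ω₀ c a y + Vv Ω₀ c a y = 0 := by
    rw [← two_nsmul]
    unfold Vv
    rw [Finset.smul_sum]
    apply Finset.sum_eq_zero
    intro w hw
    exact h2 y hy w (Finset.mem_filter.mp hw).1
  rw [h4, add_assoc, h5, add_zero]

omit [Finite G] [Finite D] [Finite Ω] in
/-- equivariance of the vertex functions -/
theorem Vv_smul {Ω₀ : Finset Ω} (h0 : Orb2 G Ω₀) {c : Ω → Ω → D} (hc : Coc2 G Ω₀ c) (a g : G) (x : Ω) :
    Vv Ω₀ c a (g • x) = g • Vv Ω₀ c (g⁻¹ * a * g) x := by
  classical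
  have hfix : ∀ w : Ω, (g⁻¹ * a * g) • w = w ↔ a • g • w = g • w := by
    intro w
    constructor
    · intro h
      calc a • g • w = g • (g⁻¹ * a * g) • w := by rw [smul_smul, smul_smul]; congr 1; group
        _ = g • w := by rw [h]
    · intro h
      calc (g⁻¹ * a * g) • w = g⁻¹ • a • g • w := by rw [smul_smul, smul_smul]
        _ = w := by rw [h, inv_smul_smul]
  unfold Vv
  rw [Finset.smul_sum]
  refine Finset.sum_nbij' (fun w => g⁻¹ • w) (fun w => g • w) ?_ ?_ ?_ ?_ ?_
  · intro w hw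
    rw [Finset.mem_filter] at hw ⊢
    refine ⟨h0.smul_mem _ _ hw.1, ?_⟩
    rw [hfix, smul_inv_smul]
    exact hw.2
  · intro w hw
    rw [Finset.mem_filter] at hw ⊢
    exact ⟨h0.smul_mem _ _ hw.1, (hfix w).mp hw.2⟩
  · intro w _; exact smul_inv_smul g w
  · intro w _; exact inv_smul_smul g w
  · intro w _
    rw [← hc.equiv, smul_inv_smul]

omit [Finite G] [Finite D] [Finite Ω] in
private theorem val_smul_add {z : D} (hz : z + z = 0) (s t : ZMod 2) :
    (s + t).val • z = s.val • z + t.val • z := by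
  have h1 : (1 : ZMod 2).val = 1 := rfl
  have h11 : (1 + 1 : ZMod 2) = 0 := by decide
  rcases zmod2 s with rfl | rfl <;> rcases zmod2 t with rfl | rfl
  · simp
  · simp
  · simp
  · rw [h11, h1, ZMod.val_zero, zero_smul, one_smul, hz]

omit [Finite G] [Finite D] [Finite Ω] in
/-- the number of transvections with a given centre in a subgroup acting faithfully is odd -/
theorem odd_card_tv {P : Subgroup G} (hfaith : ∀ g ∈ P, (∀ d : D, g • d = d) → g = 1) {a : G} (haP : a ∈ P)
    {f : D →+ ZMod 2} {z : D} (ha : Tv a f z)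
    (hone : ∀ b ∈ P, ∀ (f' : D →+ ZMod 2) (z' : D), Tv b f' z' → z' = z) (T : Finset G)
    (hT : ∀ b, b ∈ T ↔ b ∈ P ∧ ∃ (f' : D →+ ZMod 2) (z' : D), Tv b f' z') : Odd T.card := by
  classical
  have hsq : ∀ b ∈ P, (∃ f' : D →+ ZMod 2, f' z = 0 ∧ ∀ d : D, b • d = d + (f' d).val • z) → b * b = 1 := by
    rintro b hb ⟨f', hfz, hact⟩
    apply hfaith _ (P.mul_mem hb hb)
    intro d
    have h1 : b • z = z := by rw [hact z, hfz]; simp
    have h2 : b • (f' d).val • z = (f' d).val • z := by rw [smul_comm, h1]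
    rw [mul_smul, hact d, smul_add, hact d, h2, add_assoc, ← smul_add, ha.two_z, smul_zero, add_zero]
  let K : Subgroup G :=
    { carrier := {b | b ∈ P ∧ ∃ f' : D →+ ZMod 2, f' z = 0 ∧ ∀ d : D, b • d = d + (f' d).val • z}
      one_mem' := ⟨P.one_mem, 0, by simp, fun d => by simp⟩
      mul_mem' := by
        rintro b b' ⟨hb, f1, hf1, hact1⟩ ⟨hb', f2, hf2, hact2⟩
        refine ⟨P.mul_mem hb hb', f1 + f2, by simp [hf1, hf2], ?_⟩
        intro d
        have h1 : b • z = z := by rw [hact1 z, hf1]; simp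
        have h2 : b • (f2 d).val • z = (f2 d).val • z := by rw [smul_comm, h1]
        rw [mul_smul, hact2 d, smul_add, hact1 d, h2, AddMonoidHom.add_apply, val_smul_add ha.two_z, add_assoc]
      inv_mem' := by
        rintro b ⟨hb, hh⟩
        have h1 := hsq b hb hh
        have h2 : b⁻¹ = b := inv_eq_of_mul_eq_one_left h1
        rw [h2]
        exact ⟨hb, hh⟩ }
  have haK : a ∈ K := ⟨haP, f, ha.fz, ha.act⟩
  have hord : orderOf a = 2 := orderOf_eq_prime (by rw [pow_two]; exact ha.sq) ha.ne_one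
  have h2 : 2 ∣ Nat.card K := by
    have := Subgroup.orderOf_dvd_natCard K haK
    rwa [hord] at this
  have hKT : ∀ b, b ∈ insert 1 T ↔ b ∈ K := by
    intro b
    rw [Finset.mem_insert, hT]
    constructor
    · rintro (rfl | ⟨hb, f', z', hb'⟩)
      · exact K.one_mem
      · have hz := hone b hb f' z' hb'
        subst hz
        exact ⟨hb, f', hb'.fz, hb'.act⟩
    · rintro ⟨hb, f', hf', hact⟩
      by_cases hb1 : b = 1
      · exact Or.inl hb1
      · right
        refine ⟨hb, f', z, hb1, hsq b hb ⟨f', hf', hact⟩, ha.z_ne, ha.two_z, ?_, hf', hact⟩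
        rintro rfl
        exact hb1 (hfaith b hb (fun d => by rw [hact d]; simp))
  have h1T : (1 : G) ∉ T := by
    rw [hT]
    rintro ⟨_, f', z', h⟩
    exact h.ne_one rfl
  have hcard : Nat.card K = T.card + 1 := by
    rw [← Finset.card_insert_of_notMem h1T]
    have hset : (K : Set G) = ↑(insert 1 T) := by
      ext b; rw [Finset.mem_coe, hKT]; rfl
    have h3 : Nat.card K = Nat.card (↑(insert 1 T) : Set G) := Nat.card_congr (Equiv.setCongr hset)
    rw [h3, Nat.card_coe_set_eq, Set.ncard_coe_finset]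
  rw [hcard] at h2
  rw [Nat.odd_iff]
  omega

section Main

variable {Ω₀ : Finset Ω} {c : Ω → Ω → D}

omit [Finite G] [Finite D] [Finite Ω] in
private theorem mem01 {z s t : D} (hz : z + z = 0) (hs : s = 0 ∨ s = z) (ht : t = 0 ∨ t = z) :
    s + t = 0 ∨ s + t = z := by
  rcases hs with rfl | rfl <;> rcases ht with rfl | rfl
  · left; simp
  · right; simp
  · right; simp
  · left; exact hz

omit [Finite Ω] in
/-- the final case: `c' y (g y) = 0` for `g` normalizing `P ≤ G_y` -/
theorem vanish_conj (h0 : Orb2 G Ω₀) (hc : Coc2 G Ω₀ c)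
    (h2 : ∀ x ∈ Ω₀, ∀ y ∈ Ω₀, 2 • c x y = 0)
    (hfaith : ∀ x ∈ Ω₀, ∀ g ∈ stabilizer G x, (∀ d : D, g • d = d) → g = 1)
    (v : Ω → D) (hv : ∀ (g : G), ∀ y ∈ Ω₀, v (g • y) = g • v y) (hv2 : ∀ y ∈ Ω₀, 2 • v y = 0)
    (hvV : ∀ x ∈ Ω₀, ∀ a ∈ stabilizer G x, ∀ (f : D →+ ZMod 2) (z : D), Tv a f z →
      Vv Ω₀ c a x + v x = 0 ∨ Vv Ω₀ c a x + v x = z)
    {P : Subgroup G} (hP : P ∈ Q1 G D) {y : Ω} (hy : y ∈ Ω₀) (hPy : P ≤ stabilizer G y) {g : G}
    (hg : ∀ u, u ∈ P ↔ g⁻¹ * u * g ∈ P) :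
    c y (g • y) - (v (g • y) - v y) = 0 := by
  classical
  have : Fintype G := Fintype.ofFinite G
  have hgy : g • y ∈ Ω₀ := h0.smul_mem g y hy
  have hPg : P ≤ stabilizer G (g • y) := by
    intro u hu
    have h3 := hPy ((hg u).mp hu)
    rw [mem_stabilizer_iff] at h3 ⊢
    calc u • g • y = g • (g⁻¹ * u * g) • y := by rw [smul_smul, smul_smul]; congr 1; group
      _ = g • y := by rw [h3]
  have hform : ∀ a ∈ P, ∀ (f : D →+ ZMod 2) (z : D), Tv a f z →
      c y (g • y) - (v (g • y) - v y) = (Vv Ω₀ c a y + v y) + (Vv Ω₀ c a (g • y) + v (g • y)) := by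
    intro a ha f z hTv
    rw [c_eq_Vv' h0 hc h2 hTv hy hgy (hPy ha) (hPg ha)]
    have h4 : v (g • y) + v (g • y) = 0 := by rw [← two_nsmul]; exact hv2 _ hgy
    have h5 : - v (g • y) = v (g • y) := neg_eq_of_add_eq_zero_left h4
    rw [sub_eq_add_neg, neg_sub, sub_eq_add_neg, h5]
    abel
  set C := c y (g • y) - (v (g • y) - v y) with hC
  have h2C : C + C = 0 := by
    have h6 := h2 y hy (g • y) hgy
    have h7 := hv2 y hy
    have h8 := hv2 (g • y) hgy
    rw [two_nsmul] at h6 h7 h8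
    rw [hC]
    calc c y (g • y) - (v (g • y) - v y) + (c y (g • y) - (v (g • y) - v y))
        = (c y (g • y) + c y (g • y)) - (v (g • y) + v (g • y)) + (v y + v y) := by abel
      _ = 0 := by rw [h6, h7, h8]; simp
  obtain ⟨a, haP, f, z, hTv⟩ := hP
  by_cases hone : ∀ b ∈ P, ∀ (f' : D →+ ZMod 2) (z' : D), Tv b f' z' → z' = z
  · -- all centres are equal
    let T : Finset G := Finset.univ.filter (fun b => b ∈ P ∧ ∃ (f' : D →+ ZMod 2) (z' : D), Tv b f' z')
    have hT : ∀ b, b ∈ T ↔ b ∈ P ∧ ∃ (f' : D →+ ZMod 2) (z' : D), Tv b f' z' := by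
      intro b; simp [T]
    have hodd := odd_card_tv (fun g hg => hfaith y hy g (hPy hg)) haP hTv hone T hT
    have hgz : g • z = z := by
      have h9 := hone (g⁻¹ * a * g) ((hg a).mp haP) _ _ (Tv.conj hTv g)
      rw [← h9, smul_inv_smul, h9]
    have h10 : ∀ b ∈ T, C = (Vv Ω₀ c b y + v y) + g • (Vv Ω₀ c (g⁻¹ * b * g) y + v y) := by
      intro b hb
      obtain ⟨hbP, f', z', hb'⟩ := (hT b).mp hb
      rw [hform b hbP f' z' hb', Vv_smul h0 hc, hv g y hy, smul_add]
    have h11 : T.card • C = ∑ b ∈ T, (Vv Ω₀ c b y + v y) + g • ∑ b ∈ T, (Vv Ω₀ c (g⁻¹ * b * g) y + v y) := by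
      rw [Finset.smul_sum, ← Finset.sum_add_distrib, ← Finset.sum_const]
      exact Finset.sum_congr rfl h10
    have h12 : ∑ b ∈ T, (Vv Ω₀ c (g⁻¹ * b * g) y + v y) = ∑ b ∈ T, (Vv Ω₀ c b y + v y) := by
      refine Finset.sum_nbij' (fun b => g⁻¹ * b * g) (fun b => g * b * g⁻¹) ?_ ?_ ?_ ?_ ?_
      · intro b hb
        obtain ⟨hbP, f', z', hb'⟩ := (hT b).mp hb
        rw [hT]
        exact ⟨(hg b).mp hbP, _, _, Tv.conj hb' g⟩
      · intro b hb
        obtain ⟨hbP, f', z', hb'⟩ := (hT b).mp hb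
        rw [hT]
        refine ⟨?_, ?_⟩
        · rw [hg]
          have : g⁻¹ * (g * b * g⁻¹) * g = b := by group
          rwa [this]
        · have h13 := Tv.conj hb' g⁻¹
          rw [inv_inv] at h13
          exact ⟨_, _, h13⟩
      · intro b _; show g * (g⁻¹ * b * g) * g⁻¹ = b; group
      · intro b _; show g⁻¹ * (g * b * g⁻¹) * g = b; group
      · intro b _; rfl
    have h14 : ∀ b ∈ T, Vv Ω₀ c b y + v y = 0 ∨ Vv Ω₀ c b y + v y = z := by
      intro b hb
      obtain ⟨hbP, f', z', hb'⟩ := (hT b).mp hb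
      have h15 := hone b hbP f' z' hb'
      subst h15
      exact hvV y hy b (hPy hbP) f' _ hb'
    have h16 : g • ∑ b ∈ T, (Vv Ω₀ c b y + v y) = ∑ b ∈ T, (Vv Ω₀ c b y + v y) := by
      rw [Finset.smul_sum]
      refine Finset.sum_congr rfl ?_
      intro b hb
      rcases h14 b hb with h | h
      · rw [h, smul_zero]
      · rw [h, hgz]
    have h17 : ∑ b ∈ T, (Vv Ω₀ c b y + v y) + ∑ b ∈ T, (Vv Ω₀ c b y + v y) = 0 := by
      rw [← Finset.sum_add_distrib]
      apply Finset.sum_eq_zero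
      intro b hb
      rcases h14 b hb with h | h
      · rw [h, add_zero]
      · rw [h, hTv.two_z]
    rw [h12, h16, h17] at h11
    rw [← odd_smul hodd (d := C) (by rw [two_nsmul]; exact h2C)]
    exact h11
  · -- two different centres
    push Not at hone
    obtain ⟨b, hbP, f', z', hb', hne⟩ := hone
    have hA : C = 0 ∨ C = z := by
      rw [hform a haP f z hTv]
      exact mem01 hTv.two_z (hvV y hy a (hPy haP) f z hTv) (hvV _ hgy a (hPg haP) f z hTv)
    have hB : C = 0 ∨ C = z' := by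
      rw [hform b hbP f' z' hb']
      exact mem01 hb'.two_z (hvV y hy b (hPy hbP) f' z' hb') (hvV _ hgy b (hPg hbP) f' z' hb')
    rcases hA with h | h
    · exact h
    · rcases hB with h' | h'
      · exact h'
      · exact absurd (h'.symm.trans h) hne

omit [Finite G] [Finite D] [Finite Ω] in
/-- `c'` is additive along paths with large stabilizers -/
private theorem coc' (hc : Coc2 G Ω₀ c) (v : Ω → D) {P : Subgroup G} (hP : P ∈ Q1 G D) [Finite D] {x y w : Ω}
    (hx : x ∈ Ω₀) (hy : y ∈ Ω₀) (hw : w ∈ Ω₀) (h1 : P ≤ stabilizer G x) (h2 : P ≤ stabilizer G y)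
    (h3 : P ≤ stabilizer G w) :
    c x w - (v w - v x) = (c x y - (v y - v x)) + (c y w - (v w - v y)) := by
  have h4 : c x w = c x y + c y w := hc.coc x hx y hy w hw (mem_Q0 hP (le_inf (le_inf h1 h2) h3))
  rw [h4]; abel

omit [Finite D] [Finite Ω] in
/-- normalizers grow in `2`-groups -/
private theorem exists_norm {S P : Subgroup G} (hS : IsPGroup 2 S) (hPS : P < S) :
    ∃ s ∈ S, s ∉ P ∧ s ∈ Subgroup.normalizer (P : Set G) := by
  have : Fact (Nat.Prime 2) := ⟨Nat.prime_two⟩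
  have hnil : Group.IsNilpotent S := hS.isNilpotent
  have h1 : P.subgroupOf S < ⊤ := by
    rw [lt_top_iff_ne_top]
    intro h
    rw [Subgroup.subgroupOf_eq_top] at h
    exact absurd h (not_le_of_gt hPS)
  have h2 := Group.normalizerCondition_of_isNilpotent (G := S) (P.subgroupOf S) h1
  obtain ⟨s, hs, hsP⟩ := SetLike.exists_of_lt h2
  refine ⟨s, s.2, ?_, ?_⟩
  · intro h; exact hsP (Subgroup.mem_subgroupOf.mpr h)
  · rw [Subgroup.mem_normalizer_iff] at hs ⊢
    intro u
    constructor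
    · intro hu
      have h3 := (hs ⟨u, hPS.le hu⟩).mp (Subgroup.mem_subgroupOf.mpr hu)
      exact Subgroup.mem_subgroupOf.mp h3
    · intro hu
      have h5 : u ∈ S := by
        have h6 := hPS.le hu
        have h7 : (s : G)⁻¹ * ((s : G) * u * (s : G)⁻¹) * s ∈ S := S.mul_mem (S.mul_mem (S.inv_mem s.2) h6) s.2
        have h8 : (s : G)⁻¹ * ((s : G) * u * (s : G)⁻¹) * s = u := by group
        rwa [h8] at h7
      have h9 := (hs ⟨u, h5⟩).mpr (Subgroup.mem_subgroupOf.mpr hu)
      exact Subgroup.mem_subgroupOf.mp h9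

omit [Finite Ω] in
/-- C5: downward induction -/
theorem vanish_Q1 (hΩ : PSet 2 G Ω) (h0 : Orb2 G Ω₀) (hc : Coc2 G Ω₀ c)
    (h2 : ∀ x ∈ Ω₀, ∀ y ∈ Ω₀, 2 • c x y = 0)
    (hfaith : ∀ x ∈ Ω₀, ∀ g ∈ stabilizer G x, (∀ d : D, g • d = d) → g = 1)
    (v : Ω → D) (hv : ∀ (g : G), ∀ y ∈ Ω₀, v (g • y) = g • v y) (hv2 : ∀ y ∈ Ω₀, 2 • v y = 0)
    (hvV : ∀ x ∈ Ω₀, ∀ a ∈ stabilizer G x, ∀ (f : D →+ ZMod 2) (z : D), Tv a f z →
      Vv Ω₀ c a x + v x = 0 ∨ Vv Ω₀ c a x + v x = z) :
    ∀ x ∈ Ω₀, ∀ y ∈ Ω₀, stabilizer G x ⊓ stabilizer G y ∈ Q1 G D → c x y = v y - v x := by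
  have : Fact (Nat.Prime 2) := ⟨Nat.prime_two⟩
  suffices H : ∀ n : ℕ, ∀ x ∈ Ω₀, ∀ y ∈ Ω₀, stabilizer G x ⊓ stabilizer G y ∈ Q1 G D →
      Nat.card G - Nat.card ↥(stabilizer G x ⊓ stabilizer G y) = n → c x y - (v y - v x) = 0 by
    intro x hx y hy hxy
    exact sub_eq_zero.mp (H _ x hx y hy hxy rfl)
  intro n
  induction n using Nat.strong_induction_on with
  | _ n IH =>
  intro x hx y hy hP hn
  set P := stabilizer G x ⊓ stabilizer G y with hPdef
  have hPx : P ≤ stabilizer G x := inf_le_left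
  have hPy : P ≤ stabilizer G y := inf_le_right
  -- points with a larger common stabilizer
  have hup : ∀ x' ∈ Ω₀, ∀ y' ∈ Ω₀, P < stabilizer G x' ⊓ stabilizer G y' → c x' y' - (v y' - v x') = 0 := by
    intro x' hx' y' hy' hlt
    refine IH _ ?_ x' hx' y' hy' ?_ rfl
    · have h3 : Nat.card P < Nat.card ↥(stabilizer G x' ⊓ stabilizer G y') := by
        refine lt_of_le_of_ne (Subgroup.card_le_of_le hlt.le) ?_
        intro h
        exact hlt.ne (Subgroup.eq_of_le_of_card_ge hlt.le h.ge)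
      have h4 : Nat.card ↥(stabilizer G x' ⊓ stabilizer G y') ≤ Nat.card G := Subgroup.card_le_card_group _
      omega
    · obtain ⟨a, ha, f, z, hTv⟩ := hP
      exact ⟨a, hlt.le ha, f, z, hTv⟩
  by_cases hPx' : P = stabilizer G x
  · -- both stabilizers are equal to `P`
    obtain ⟨g, hg⟩ := h0.trans x hx y hy
    have hPy' : P = stabilizer G y := by
      apply Subgroup.eq_of_le_of_card_ge hPy
      rw [← hg, hPx', stabilizer_smul_eq_stabilizer_map_conj, Subgroup.card_map_of_injective]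
      exact (MulAut.conj g).injective
    have hgn : ∀ u, u ∈ P ↔ g⁻¹ * u * g ∈ P := by
      intro u
      have h5 : u ∈ P ↔ u ∈ stabilizer G (g • x) := by rw [hg, ← hPy']
      rw [h5, hPx', mem_stabilizer_iff, mem_stabilizer_iff]
      constructor
      · intro h
        calc (g⁻¹ * u * g) • x = g⁻¹ • u • g • x := by rw [smul_smul, smul_smul]
          _ = x := by rw [h, inv_smul_smul]
      · intro h
        calc u • g • x = g • (g⁻¹ * u * g) • x := by rw [smul_smul, smul_smul]; congr 1; group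
          _ = g • x := by rw [h]
    rw [← hg]
    exact vanish_conj h0 hc h2 hfaith v hv hv2 hvV hP hx hPx hgn
  · have hltx : P < stabilizer G x := lt_of_le_of_ne hPx hPx'
    have hlty : P < stabilizer G y := by
      refine lt_of_le_of_ne hPy ?_
      intro h
      apply hPx'
      apply Subgroup.eq_of_le_of_card_ge hPx
      obtain ⟨g, hg⟩ := h0.trans x hx y hy
      have h6 : Nat.card (stabilizer G y) = Nat.card (stabilizer G x) := by
        rw [← hg, stabilizer_smul_eq_stabilizer_map_conj, Subgroup.card_map_of_injective]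
        exact (MulAut.conj g).injective
      rw [h, h6]
    set N : Subgroup G := Subgroup.normalizer (P : Set G) with hN
    -- Sylow subgroups of the normalizer
    have key : ∀ w ∈ Ω₀, P < stabilizer G w → ∃ S : Sylow 2 N, ∃ s ∈ stabilizer G w, s ∉ P ∧
        s ∈ (S : Subgroup N).map N.subtype := by
      intro w hw hlt
      have hpw := hΩ.pgroup w
      obtain ⟨s, hs, hsP, hsN⟩ := exists_norm hpw hlt
      have h7 : IsPGroup 2 ((stabilizer G w).subgroupOf N) := by
        exact hpw.comap_of_injective N.subtype N.subtype_injective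
      obtain ⟨S, hS⟩ := h7.exists_le_sylow
      exact ⟨S, s, hs, hsP, ⟨⟨s, hsN⟩, hS (Subgroup.mem_subgroupOf.mpr hs), rfl⟩⟩
    have hPN : P ≤ N := Subgroup.le_normalizer
    have hpP : IsPGroup 2 P := (hΩ.pgroup x).to_le hPx
    have hPS : ∀ S : Sylow 2 N, P ≤ (S : Subgroup N).map N.subtype := by
      intro S u hu
      have hnorm : (P.subgroupOf N).Normal := Subgroup.normal_in_normalizer
      have h8 : IsPGroup 2 (P.subgroupOf N) := hpP.comap_of_injective N.subtype N.subtype_injective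
      have h9 : P.subgroupOf N ≤ (S : Subgroup N) := by
        obtain ⟨S', hS'⟩ := h8.exists_le_sylow
        obtain ⟨t, ht⟩ := MulAction.exists_smul_eq N S' S
        rw [← ht]
        intro q hq
        have h10 : t⁻¹ * q * t ∈ P.subgroupOf N := by
          have := hnorm.conj_mem q hq t⁻¹
          simpa using this
        have h11 : q ∈ MulAut.conj t • (S' : Subgroup N) := by
          rw [Subgroup.mem_pointwise_smul_iff_inv_smul_mem]
          have := hS' h10
          simpa [MulAut.smul_def, mul_assoc] using this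
        exact h11
      exact ⟨⟨u, hPN hu⟩, h9 (Subgroup.mem_subgroupOf.mpr hu), rfl⟩
    have hpS : ∀ S : Sylow 2 N, IsPGroup 2 ((S : Subgroup N).map N.subtype) := fun S => S.isPGroup'.map _
    obtain ⟨S1, s1, hs1, hs1P, hs1S⟩ := key x hx hltx
    obtain ⟨S2, s2, hs2, hs2P, hs2S⟩ := key y hy hlty
    obtain ⟨g, hg⟩ := MulAction.exists_smul_eq N S1 S2
    obtain ⟨x1, hx1, hSx1⟩ := exists_point h0 hx (hpS S1)
    obtain ⟨y1, hy1, hSy1⟩ := exists_point h0 hx (hpS S2)
    have hSgx : (S2 : Subgroup N).map N.subtype ≤ stabilizer G ((g : G) • x1) := by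
      rintro _ ⟨q, hq, rfl⟩
      have h12 : g⁻¹ * q * g ∈ (S1 : Subgroup N) := by
        have h13 : q ∈ MulAut.conj g • (S1 : Subgroup N) := by
          have : (S2 : Subgroup N) = MulAut.conj g • (S1 : Subgroup N) := by rw [← hg]; rfl
          rw [← this]; exact hq
        rw [Subgroup.mem_pointwise_smul_iff_inv_smul_mem] at h13
        simpa [MulAut.smul_def, mul_assoc] using h13
      have h14 := hSx1 ⟨_, h12, rfl⟩
      rw [mem_stabilizer_iff] at h14 ⊢
      have h15 : ((g : G)⁻¹ * (q : G) * (g : G)) • x1 = x1 := by simpa using h14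
      show (q : G) • (g : G) • x1 = (g : G) • x1
      calc (q : G) • (g : G) • x1 = (g : G) • ((g : G)⁻¹ * (q : G) * (g : G)) • x1 := by
            rw [smul_smul, smul_smul]; congr 1; group
        _ = (g : G) • x1 := by rw [h15]
    have hgx1 : (g : G) • x1 ∈ Ω₀ := h0.smul_mem _ _ hx1
    have hlt_of : ∀ {a b : Ω}, P ≤ stabilizer G a → P ≤ stabilizer G b → (∃ s, s ∈ stabilizer G a ∧
        s ∈ stabilizer G b ∧ s ∉ P) → P < stabilizer G a ⊓ stabilizer G b := by
      intro a b ha hb ⟨s, hsa, hsb, hsP⟩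
      refine lt_of_le_of_ne (le_inf ha hb) ?_
      intro h
      apply hsP
      rw [h]
      exact ⟨hsa, hsb⟩
    have hPx1 : P ≤ stabilizer G x1 := (hPS S1).trans hSx1
    have hPy1 : P ≤ stabilizer G y1 := (hPS S2).trans hSy1
    have hPgx1 : P ≤ stabilizer G ((g : G) • x1) := (hPS S2).trans hSgx
    have e1 := hup x hx x1 hx1 (hlt_of hPx hPx1 ⟨s1, hs1, hSx1 hs1S, hs1P⟩)
    have e4 := hup y1 hy1 y hy (hlt_of hPy1 hPy ⟨s2, hSy1 hs2S, hs2, hs2P⟩)
    have e3 := hup ((g : G) • x1) hgx1 y1 hy1 (hlt_of hPgx1 hPy1 ⟨s2, hSgx hs2S, hSy1 hs2S, hs2P⟩)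
    have e2 : c x1 ((g : G) • x1) - (v ((g : G) • x1) - v x1) = 0 := by
      refine vanish_conj h0 hc h2 hfaith v hv hv2 hvV hP hx1 hPx1 ?_
      intro u
      have h16 := (Subgroup.mem_normalizer_iff.mp (N.inv_mem g.2)) u
      simpa using h16
    rw [coc' hc v hP hx hx1 hy hPx hPx1 hPy, e1, zero_add,
      coc' hc v hP hx1 hgx1 hy hPx1 hPgx1 hPy, e2, zero_add,
      coc' hc v hP hgx1 hy1 hy hPgx1 hPy1 hPy, e3, e4, add_zero]

end Main

end Cfsg.Agent.H88.Lim
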